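import Mathlib.CategoryTheory.Galois.Equivalence
import Mathlib.CategoryTheory.Galois.Prorepresentability

/-!
# Galois categories: morphisms, sections and splittings in terms of the action on fibres
-/

universe u v w

namespace Groth.Agent.GalCat.Basic

open CategoryTheory Limits PreGaloisCategory

variable {C : Type u} [Category.{v} C] [GaloisCategory C] (F : C ⥤ FintypeCat.{w}) [FiberFunctor F]

theorem smul_map {X Y : C} (σ : Aut F) (f : X ⟶ Y) (x : F.obj X) :
    σ • F.map f x = F.map f (σ • x) :=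
  mulAction_naturality F σ f x

theorem injective_map_of_mono {X Y : C} (f : X ⟶ Y) [Mono f] : Function.Injective (F.map f) :=
  ConcreteCategory.injective_of_mono_of_preservesPullback (F.map f)

theorem isConnected_iff (X : C) :
    IsConnected X ↔ Nonempty (F.obj X) ∧ MulAction.IsPretransitive (Aut F) (F.obj X) := by
  refine ⟨fun _ => ⟨inferInstance, inferInstance⟩, fun ⟨hne, htr⟩ => ⟨(not_initial_iff_fiber_nonempty F X).mpr hne, ?_⟩⟩
  intro Y i _ hY
  obtain ⟨y⟩ := (not_initial_iff_fiber_nonempty F Y).mp hY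
  have : IsIso (F.map i) := (ConcreteCategory.isIso_iff_bijective (F.map i)).mpr
    ⟨injective_map_of_mono F i, fun x => by
      obtain ⟨σ, rfl⟩ := MulAction.exists_smul_eq (Aut F) (F.map i y) x
      exact ⟨σ • y, (smul_map F σ i y).symm⟩⟩
  exact isIso_of_reflects_iso i F

theorem stabilizer_map_of_mono {X Y : C} (f : X ⟶ Y) [Mono f] (x : F.obj X) :
    MulAction.stabilizer (Aut F) (F.map f x) = MulAction.stabilizer (Aut F) x := by
  ext σ
  simp only [MulAction.mem_stabilizer_iff, smul_map]
  exact (injective_map_of_mono F f).eq_iff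

theorem stabilizer_le_map {X Y : C} (f : X ⟶ Y) (x : F.obj X) :
    MulAction.stabilizer (Aut F) x ≤ MulAction.stabilizer (Aut F) (F.map f x) := by
  intro σ hσ
  rw [MulAction.mem_stabilizer_iff] at hσ ⊢
  rw [smul_map, hσ]

/-- For a connected `A` a point of `F X` is the image of the point `a` of `F A` under a morphism iff its stabilizer
contains the stabilizer of `a`. -/
theorem exists_hom_iff (A X : C) [IsConnected A] (a : F.obj A) (x : F.obj X) :
    (∃ f : A ⟶ X, F.map f a = x) ↔ MulAction.stabilizer (Aut F) a ≤ MulAction.stabilizer (Aut F) x := by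
  refine ⟨fun ⟨f, hf⟩ => hf ▸ stabilizer_le_map F f a, fun hle => ?_⟩
  obtain ⟨Z, i, z, hz, _, _⟩ :=
    fiber_in_connected_component F (A ⨯ X) ((fiberBinaryProductEquiv F A X).symm (a, x))
  have h1 : F.map (i ≫ prod.fst) z = a := by
    rw [F.map_comp, FintypeCat.comp_apply, hz, fiberBinaryProductEquiv_symm_fst_apply]
  have h2 : F.map (i ≫ prod.snd) z = x := by
    rw [F.map_comp, FintypeCat.comp_apply, hz, fiberBinaryProductEquiv_symm_snd_apply]
  have hstab : MulAction.stabilizer (Aut F) a ≤ MulAction.stabilizer (Aut F) z := by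
    intro σ hσ
    rw [← stabilizer_map_of_mono F i z, hz, MulAction.mem_stabilizer_iff]
    apply (fiberBinaryProductEquiv F A X).injective
    rw [Equiv.apply_symm_apply]
    refine Prod.ext ?_ ?_
    · rw [← fiberBinaryProductEquiv_symm_fst_apply F (X := A) (Y := X)
        ((fiberBinaryProductEquiv F A X) (σ • (fiberBinaryProductEquiv F A X).symm (a, x))).1
        ((fiberBinaryProductEquiv F A X) (σ • (fiberBinaryProductEquiv F A X).symm (a, x))).2,
        Prod.mk.eta, Equiv.symm_apply_apply, ← smul_map, fiberBinaryProductEquiv_symm_fst_apply]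
      exact hσ
    · rw [← fiberBinaryProductEquiv_symm_snd_apply F (X := A) (Y := X)
        ((fiberBinaryProductEquiv F A X) (σ • (fiberBinaryProductEquiv F A X).symm (a, x))).1
        ((fiberBinaryProductEquiv F A X) (σ • (fiberBinaryProductEquiv F A X).symm (a, x))).2,
        Prod.mk.eta, Equiv.symm_apply_apply, ← smul_map, fiberBinaryProductEquiv_symm_snd_apply]
      exact hle hσ
  have : IsIso (F.map (i ≫ prod.fst)) := by
    rw [ConcreteCategory.isIso_iff_bijective]
    have : Nonempty (F.obj Z) := ⟨z⟩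
    refine ⟨fun p q hpq => ?_, surjective_of_nonempty_fiber_of_isConnected F _⟩
    obtain ⟨σ, rfl⟩ := MulAction.exists_smul_eq (Aut F) z p
    obtain ⟨τ, rfl⟩ := MulAction.exists_smul_eq (Aut F) z q
    rw [← smul_map, ← smul_map, h1] at hpq
    have : σ⁻¹ * τ ∈ MulAction.stabilizer (Aut F) a := by
      rw [MulAction.mem_stabilizer_iff, mul_smul, ← hpq, inv_smul_smul]
    have := MulAction.mem_stabilizer_iff.mp (hstab this)
    rw [mul_smul, inv_smul_eq_iff] at this
    exact this.symm
  have : IsIso (i ≫ prod.fst) := isIso_of_reflects_iso _ F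
  refine ⟨inv (i ≫ prod.fst) ≫ i ≫ prod.snd, ?_⟩
  rw [← h1, ← FintypeCat.comp_apply, ← F.map_comp, IsIso.hom_inv_id_assoc, h2]

/-- Two pointed connected objects with the same stabilizer are isomorphic. -/
theorem exists_iso_of_stabilizer_eq (A B : C) [IsConnected A] [IsConnected B] (a : F.obj A) (b : F.obj B)
    (h : MulAction.stabilizer (Aut F) a = MulAction.stabilizer (Aut F) b) :
    ∃ e : A ≅ B, F.map e.hom a = b := by
  obtain ⟨f, hf⟩ := (exists_hom_iff F A B a b).mpr h.le
  obtain ⟨g, hg⟩ := (exists_hom_iff F B A b a).mpr h.ge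
  refine ⟨⟨f, g, evaluation_injective_of_isConnected F A A a ?_, evaluation_injective_of_isConnected F B B b ?_⟩, hf⟩
  · simp [F.map_comp, hf, hg]
  · simp [F.map_comp, hf, hg]

theorem subsingleton_fiber_terminal : Subsingleton (F.obj (⊤_ C)) := by
  have h : IsTerminal (F.obj (⊤_ C)) := IsTerminal.isTerminalObj F _ terminalIsTerminal
  refine ⟨fun x y => ?_⟩
  have := congr($(h.hom_ext (FintypeCat.homMk (fun _ : F.obj (⊤_ C) => x))
    (FintypeCat.homMk (fun _ : F.obj (⊤_ C) => y))) x)
  exact this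

theorem nonempty_fiber_terminal : Nonempty (F.obj (⊤_ C)) := by
  have h : IsTerminal (F.obj (⊤_ C)) := IsTerminal.isTerminalObj F _ terminalIsTerminal
  exact ⟨h.from (FintypeCat.of PUnit.{w+1}) PUnit.unit⟩

include F in
theorem isConnected_terminal : IsConnected (⊤_ C) := by
  have := subsingleton_fiber_terminal F
  exact (isConnected_iff F _).mpr ⟨nonempty_fiber_terminal F, ⟨fun x y => ⟨1, Subsingleton.elim _ _⟩⟩⟩

/-- A point of the fibre is the image of a section iff it is fixed by the fundamental group. -/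
theorem exists_section_iff (X : C) (x : F.obj X) :
    (∃ s : ⊤_ C ⟶ X, ∀ t : F.obj (⊤_ C), F.map s t = x) ↔ ∀ σ : Aut F, σ • x = x := by
  have := isConnected_terminal F
  have := subsingleton_fiber_terminal F
  obtain ⟨t₀⟩ := nonempty_fiber_terminal F
  constructor
  · rintro ⟨s, hs⟩ σ
    rw [← hs t₀, smul_map, Subsingleton.elim (σ • t₀) t₀]
  · intro h
    obtain ⟨s, hs⟩ := (exists_hom_iff F (⊤_ C) X t₀ x).mpr fun σ _ => h σ
    exact ⟨s, fun t => Subsingleton.elim t₀ t ▸ hs⟩

theorem exists_rep_coprod {ι : Type} [Finite ι] (f : ι → C) (z : F.obj (∐ f)) :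
    ∃ i y, F.map (Sigma.ι f i) y = z := by
  obtain ⟨⟨i⟩, y, hy⟩ := Concrete.isColimit_exists_rep _ (isColimitOfPreserves F (coproductIsCoproduct f)) z
  exact ⟨i, y, hy⟩

/-- An object is split (a finite sum of copies of the terminal object) iff the fundamental group acts trivially. -/
theorem split_iff (X : C) :
    (∃ n : ℕ, Nonempty (X ≅ ∐ fun _ : Fin n => ⊤_ C)) ↔ ∀ (σ : Aut F) (x : F.obj X), σ • x = x := by
  have := subsingleton_fiber_terminal F
  constructor
  · rintro ⟨n, ⟨e⟩⟩ σ x
    obtain ⟨i, t, ht⟩ := exists_rep_coprod F (fun _ : Fin n => ⊤_ C) (F.map e.hom x)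
    have hx : x = F.map (Sigma.ι (fun _ : Fin n => ⊤_ C) i ≫ e.inv) t := by
      rw [F.map_comp, FintypeCat.comp_apply, ht, ← FintypeCat.comp_apply, ← F.map_comp, e.hom_inv_id, F.map_id,
        FintypeCat.id_apply]
    rw [hx, smul_map, Subsingleton.elim (σ • t) t]
  · intro h
    obtain ⟨t₀⟩ := nonempty_fiber_terminal F
    let e := Finite.equivFin (F.obj X)
    have hs := fun j => (exists_section_iff F X (e.symm j)).mpr fun σ => h σ _
    choose s hs using hs
    refine ⟨Nat.card (F.obj X), ⟨?_⟩⟩
    have : IsIso (F.map (Sigma.desc s)) := by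
      rw [ConcreteCategory.isIso_iff_bijective]
      constructor
      · intro p q hpq
        obtain ⟨i, a, rfl⟩ := exists_rep_coprod F _ p
        obtain ⟨j, b, rfl⟩ := exists_rep_coprod F _ q
        simp only [← FintypeCat.comp_apply, ← F.map_comp, Sigma.ι_desc, hs] at hpq
        rw [e.symm.injective hpq, Subsingleton.elim a b]
      · intro x
        refine ⟨F.map (Sigma.ι (fun _ : Fin (Nat.card (F.obj X)) => ⊤_ C) (e x)) t₀, ?_⟩
        rw [← FintypeCat.comp_apply, ← F.map_comp, Sigma.ι_desc, hs, Equiv.symm_apply_apply]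
    have : IsIso (Sigma.desc s) := isIso_of_reflects_iso _ F
    exact (asIso (Sigma.desc s)).symm

/-- An automorphism of the fibre functor fixing all points of connected objects is trivial. -/
theorem eq_one_of_forall_connected (σ : Aut F)
    (h : ∀ (X : C), IsConnected X → ∀ x : F.obj X, σ • x = x) : σ = 1 := by
  ext X x
  obtain ⟨Y, i, y, rfl, hY, _⟩ := fiber_in_connected_component F X x
  change σ • F.map i y = _
  rw [smul_map, h Y hY y]
  rfl

/-- Open subgroups of the fundamental group are the stabilizers of pointed connected objects. -/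
theorem exists_stabilizer_eq (U : OpenSubgroup (Aut F)) :
    ∃ (X : C) (x : F.obj X), IsConnected X ∧ MulAction.stabilizer (Aut F) x = U.toSubgroup := by
  let F' : C ⥤ FintypeCat.{u} := F ⋙ FintypeCat.uSwitch.{w, u}
  let : FiberFunctor F' := FiberFunctor.comp_right _
  let e : Aut F ≃ₜ* Aut F' :=
    autEquivAutWhiskerRight F (Functor.FullyFaithful.ofFullyFaithful FintypeCat.uSwitch.{w, u})
  let U' : OpenSubgroup (Aut F') := ⟨U.toSubgroup.comap e.symm.toMonoidHom, U.isOpen'.preimage e.symm.continuous⟩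
  have : Finite (Aut F' ⧸ U'.toSubgroup) := U'.toSubgroup.quotient_finite_of_isOpen U'.isOpen'
  obtain ⟨X, ⟨φ⟩⟩ := exists_lift_of_quotient_openSubgroup (F := F') U'
  let q : (Aut F' ⧸ₐ U'.toSubgroup).V := (QuotientGroup.mk 1 : Aut F' ⧸ U'.toSubgroup)
  let a' : F'.obj X := φ.inv.hom q
  have ha' : ∀ τ : Aut F', τ • a' = a' ↔ τ ∈ U'.toSubgroup := by
    intro τ
    have h1 : τ • a' = φ.inv.hom (QuotientGroup.mk (τ * 1) : Aut F' ⧸ U'.toSubgroup) := (congr($(φ.inv.comm τ) q)).symm
    have hinj : Function.Injective φ.inv.hom := by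
      intro p r hpr
      have := congrArg φ.hom.hom hpr
      simp only [← FintypeCat.comp_apply, ← Action.comp_hom, Iso.inv_hom_id] at this
      exact this
    rw [h1]
    refine hinj.eq_iff.trans ?_
    change ((τ * 1 : Aut F') : Aut F' ⧸ U'.toSubgroup) = ((1 : Aut F') : Aut F' ⧸ U'.toSubgroup) ↔ _
    rw [QuotientGroup.eq, mul_one, mul_one, inv_mem_iff]
  let x : F.obj X := FintypeCat.uSwitchEquiv (F.obj X) a'
  have hx : MulAction.stabilizer (Aut F) x = U.toSubgroup := by
    ext σ
    rw [MulAction.mem_stabilizer_iff]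
    have h1 : σ • x = FintypeCat.uSwitchEquiv (F.obj X) (e σ • a') :=
      FintypeCat.uSwitchEquiv_naturality (σ.hom.app X) a'
    rw [h1, (FintypeCat.uSwitchEquiv (F.obj X)).injective.eq_iff, ha']
    change e.symm (e σ) ∈ U.toSubgroup ↔ _
    rw [ContinuousMulEquiv.symm_apply_apply]
  obtain ⟨Y, i, y, hy, hY, _⟩ := fiber_in_connected_component F X x
  exact ⟨Y, y, hY, by rw [← stabilizer_map_of_mono F i y, hy, hx]⟩

theorem isOpen_stabilizer {X : C} (x : F.obj X) :
    IsOpen (MulAction.stabilizer (Aut F) x : Set (Aut F)) :=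
  stabilizer_isOpen (Aut F) x

end Groth.Agent.GalCat.Basic
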