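import Groth.Agent.GalCat.Unique
import Groth.Prelude.Def_Pi1X
import Mathlib.Topology.Algebra.ClopenNhdofOne

/-!
# Exact functors of Galois categories and the induced maps of fundamental groups
-/

universe u v w

namespace Groth.Agent.GalCat.Exact

open CategoryTheory Limits PreGaloisCategory Groth.Agent.GalCat.Basic

theorem exists_hom_of_equivariant {C : Type u} [Category.{v} C] [GaloisCategory C]
    (F : C ⥤ FintypeCat.{w}) [FiberFunctor F] {X Y : C} (φ : F.obj X → F.obj Y)
    (h : ∀ (σ : Aut F) x, φ (σ • x) = σ • φ x) : ∃ f : X ⟶ Y, ∀ x, F.map f x = φ x := by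
  obtain ⟨f, hf⟩ := (functorToAction F).map_surjective (X := X) (Y := Y)
    { hom := FintypeCat.homMk φ
      comm := fun σ => FintypeCat.hom_ext _ _ fun x => h σ x }
  exact ⟨f, fun x => congr($(congrArg Action.Hom.hom hf) x)⟩

/-- A sum of two points: two distinct points with trivial action. -/
theorem exists_two_points {C : Type u} [Category.{v} C] [GaloisCategory C]
    (F : C ⥤ FintypeCat.{w}) [FiberFunctor F] :
    ∃ (Y : C) (y₀ y₁ : F.obj Y), y₀ ≠ y₁ ∧ (∀ σ : Aut F, σ • y₀ = y₀) ∧ (∀ σ : Aut F, σ • y₁ = y₁) := by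
  have := subsingleton_fiber_terminal F
  obtain ⟨t⟩ := nonempty_fiber_terminal F
  refine ⟨(⊤_ C) ⨿ (⊤_ C), F.map coprod.inl t, F.map coprod.inr t, ?_, ?_, ?_⟩
  · intro h
    let e : F.obj ((⊤_ C) ⨿ (⊤_ C)) ≃ F.obj (⊤_ C) ⊕ F.obj (⊤_ C) :=
      ((PreservesColimitPair.iso (F ⋙ FintypeCat.incl) (⊤_ C) (⊤_ C)).symm.trans
        (Types.binaryCoproductIso (FintypeCat.incl.obj (F.obj (⊤_ C))) (FintypeCat.incl.obj (F.obj (⊤_ C))))).toEquiv
    have hl : e.symm (Sum.inl t) = F.map coprod.inl t := by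
      change ((Types.binaryCoproductIso _ _).inv ≫ (PreservesColimitPair.iso (F ⋙ FintypeCat.incl) _ _).hom) _ = _
      have := congr($(Types.binaryCoproductIso_inl_comp_inv (FintypeCat.incl.obj (F.obj (⊤_ C)))
        (FintypeCat.incl.obj (F.obj (⊤_ C)))) t)
      simp only [TypeCat.Fun.coe_mk, types_comp_apply] at this ⊢
      erw [this]
      exact congr($(coprodComparison_inl (F ⋙ FintypeCat.incl) (A := ⊤_ C) (B := ⊤_ C)) t)
    have hr : e.symm (Sum.inr t) = F.map coprod.inr t := by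
      change ((Types.binaryCoproductIso _ _).inv ≫ (PreservesColimitPair.iso (F ⋙ FintypeCat.incl) _ _).hom) _ = _
      have := congr($(Types.binaryCoproductIso_inr_comp_inv (FintypeCat.incl.obj (F.obj (⊤_ C)))
        (FintypeCat.incl.obj (F.obj (⊤_ C)))) t)
      simp only [TypeCat.Fun.coe_mk, types_comp_apply] at this ⊢
      erw [this]
      exact congr($(coprodComparison_inr (F ⋙ FintypeCat.incl) (A := ⊤_ C) (B := ⊤_ C)) t)
    rw [← hl, ← hr] at h
    exact Sum.inl_ne_inr (e.symm.injective h)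
  · intro σ; rw [smul_map, Subsingleton.elim (σ • t) t]
  · intro σ; rw [smul_map, Subsingleton.elim (σ • t) t]

variable {C C' : Type u} [Category.{v} C] [Category.{v} C'] [GaloisCategory C] [GaloisCategory C']
  (H : C ⥤ C') (F' : C' ⥤ FintypeCat.{w}) [FiberFunctor F'] [FiberFunctor (H ⋙ F')]

theorem smul_autWhisker {X : C} (σ : Aut F') (x : (H ⋙ F').obj X) :
    Pi1X.autWhisker H F' σ • x = (σ • (show F'.obj (H.obj X) from x) : F'.obj (H.obj X)) := rfl

theorem continuous_autWhisker : Continuous (Pi1X.autWhisker H F') := by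
  rw [Topology.IsInducing.continuous_iff (autEmbedding_isClosedEmbedding _).isInducing, continuous_pi_iff]
  intro X
  have h1 : Continuous (autEmbedding F' : Aut F' → ∀ Y, Aut (F'.obj Y)) := continuous_induced_dom
  exact continuous_pi_iff.mp h1 (H.obj X)

theorem isClosed_range : IsClosed ((Pi1X.autWhisker H F').range : Set (Aut (H ⋙ F'))) :=
  (isCompact_range (continuous_autWhisker H F')).isClosed

/-- `Subgroup` version of: a closed subgroup is cut out by the open subgroups containing it. -/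
theorem le_of_forall_open {G : Type*} [Group G] [TopologicalSpace G] [IsTopologicalGroup G] [CompactSpace G]
    [TotallyDisconnectedSpace G] {K L : Subgroup G} (hL : IsClosed (L : Set G))
    (h : ∀ U : OpenSubgroup G, L ≤ U.toSubgroup → K ≤ U.toSubgroup) : K ≤ L := by
  have e := ProfiniteGrp.closedSubgroup_eq_sInf_open (⟨L, hL⟩ : ClosedSubgroup G)
  simp only at e
  rw [e]
  exact le_sInf fun N hN => h ⟨N, hN.1⟩ hN.2

/-- The stabilizer of a point of `H X` is the preimage of the stabilizer of the point of `X`. -/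
theorem stabilizer_comap {X : C} (x : (H ⋙ F').obj X) :
    MulAction.stabilizer (Aut F') (show F'.obj (H.obj X) from x) =
      (MulAction.stabilizer (Aut (H ⋙ F')) x).comap (Pi1X.autWhisker H F') := rfl

theorem surjective_of_isConnected_map (h : ∀ X : C, IsConnected X → IsConnected (H.obj X)) :
    Function.Surjective (Pi1X.autWhisker H F') := by
  rw [← MonoidHom.range_eq_top, eq_top_iff]
  refine le_of_forall_open (isClosed_range H F') fun U hU => ?_
  obtain ⟨X, x, hX, hxU⟩ := exists_stabilizer_eq (H ⋙ F') U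
  have := h X hX
  intro σ _
  rw [← hxU, MulAction.mem_stabilizer_iff]
  obtain ⟨τ, hτ⟩ := MulAction.exists_smul_eq (Aut F') (show F'.obj (H.obj X) from x)
    (show F'.obj (H.obj X) from σ • x)
  have h1 : Pi1X.autWhisker H F' τ ∈ MulAction.stabilizer (Aut (H ⋙ F')) x := by
    rw [hxU]; exact hU ⟨τ, rfl⟩
  exact hτ.symm.trans h1

theorem isConnected_map_of_surjective (h : Function.Surjective (Pi1X.autWhisker H F'))
    (X : C) (hX : IsConnected X) : IsConnected (H.obj X) := by
  obtain ⟨hne, htr⟩ := (isConnected_iff (H ⋙ F') X).mp hX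
  refine (isConnected_iff F' _).mpr ⟨hne, ⟨fun x y => ?_⟩⟩
  obtain ⟨σ, hσ⟩ := MulAction.exists_smul_eq (Aut (H ⋙ F')) (show (H ⋙ F').obj X from x)
    (show (H ⋙ F').obj X from y)
  obtain ⟨τ, rfl⟩ := h σ
  exact ⟨τ, hσ⟩

theorem full_faithful_of_surjective (h : Function.Surjective (Pi1X.autWhisker H F')) :
    H.Full ∧ H.Faithful := by
  have hf : H.Faithful := Functor.Faithful.of_comp H F'
  refine ⟨⟨fun {X Y} g => ?_⟩, hf⟩
  obtain ⟨f, hf⟩ := exists_hom_of_equivariant (H ⋙ F') (X := X) (Y := Y) (fun x => F'.map g x) fun σ x => by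
    obtain ⟨τ, rfl⟩ := h σ
    exact (smul_map F' τ g _).symm
  exact ⟨f, F'.map_injective (FintypeCat.hom_ext _ _ hf)⟩

include F' in
theorem isConnected_map_of_full (hfull : H.Full) (X : C) (hX : IsConnected X) : IsConnected (H.obj X) := by
  classical
  obtain ⟨⟨a⟩, htr⟩ := (isConnected_iff (H ⋙ F') X).mp hX
  obtain ⟨Y, y₀, y₁, hne, hy₀, hy₁⟩ := exists_two_points (H ⋙ F')
  refine (isConnected_iff F' _).mpr ⟨⟨a⟩, ?_⟩
  let O : Set (F'.obj (H.obj X)) := MulAction.orbit (Aut F') (show F'.obj (H.obj X) from a)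
  obtain ⟨g, hg⟩ := exists_hom_of_equivariant F' (X := H.obj X) (Y := H.obj Y)
    (fun x => if x ∈ O then y₀ else y₁) fun σ x => by
      have hiff : σ • x ∈ O ↔ x ∈ O := by
        simp only [O, ← MulAction.orbit_eq_iff, MulAction.orbit_smul]
      by_cases hx : x ∈ O
      · simp only [hiff, hx, if_true]; exact (hy₀ (Pi1X.autWhisker H F' σ)).symm
      · simp only [hiff, hx, if_false]; exact (hy₁ (Pi1X.autWhisker H F' σ)).symm
  obtain ⟨f, rfl⟩ := H.map_surjective g
  have hall : ∀ x : F'.obj (H.obj X), x ∈ O := by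
    intro x
    by_contra hx
    obtain ⟨σ, hσ⟩ := MulAction.exists_smul_eq (Aut (H ⋙ F')) a x
    have h0 : (H ⋙ F').map f a = y₀ := (hg a).trans (if_pos (MulAction.mem_orbit_self _))
    have h1 : (H ⋙ F').map f x = y₁ := (hg x).trans (if_neg hx)
    rw [← hσ, ← smul_map, h0, hy₀] at h1
    exact hne h1
  refine ⟨fun x y => ?_⟩
  obtain ⟨s, rfl⟩ := hall x
  obtain ⟨t, rfl⟩ := hall y
  exact ⟨t * s⁻¹, by simp [mul_smul]⟩

theorem surjective_iff : Function.Surjective (Pi1X.autWhisker H F') ↔ (H.Full ∧ H.Faithful) :=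
  ⟨full_faithful_of_surjective H F',
    fun h => surjective_of_isConnected_map H F' (isConnected_map_of_full H F' h.1)⟩

theorem range_le_stabilizer_iff {X : C} (a : (H ⋙ F').obj X) :
    (Pi1X.autWhisker H F').range ≤ MulAction.stabilizer (Aut (H ⋙ F')) a ↔
      ∃ s : ⊤_ C' ⟶ H.obj X, ∀ t : F'.obj (⊤_ C'), F'.map s t = a := by
  rw [exists_section_iff F' (H.obj X) a]
  exact ⟨fun h σ => h ⟨σ, rfl⟩, fun h _ ⟨σ, hσ⟩ => hσ ▸ h σ⟩

theorem normalClosure_range_le_stabilizer_iff (X : C) [IsConnected X] (a : (H ⋙ F').obj X) :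
    Subgroup.normalClosure ((Pi1X.autWhisker H F').range : Set (Aut (H ⋙ F'))) ≤
        MulAction.stabilizer (Aut (H ⋙ F')) a ↔
      ∃ n : ℕ, Nonempty (H.obj X ≅ ∐ fun _ : Fin n => ⊤_ C') := by
  rw [split_iff F']
  constructor
  · intro h τ x
    obtain ⟨σ, hσ⟩ := MulAction.exists_smul_eq (Aut (H ⋙ F')) a (show (H ⋙ F').obj X from x)
    have hmem : σ⁻¹ * Pi1X.autWhisker H F' τ * σ⁻¹⁻¹ ∈ MulAction.stabilizer (Aut (H ⋙ F')) a :=
      h (Subgroup.Normal.conj_mem inferInstance _ (Subgroup.subset_normalClosure (SetLike.mem_coe.mpr (MonoidHom.mem_range.mpr ⟨τ, rfl⟩))) σ⁻¹)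
    rw [inv_inv, MulAction.mem_stabilizer_iff, mul_smul, mul_smul, inv_smul_eq_iff, hσ] at hmem
    exact hmem
  · intro h
    let K : Subgroup (Aut (H ⋙ F')) :=
      { carrier := {σ | ∀ x : (H ⋙ F').obj X, σ • x = x}
        one_mem' := fun x => one_smul _ x
        mul_mem' := fun {s t} hs ht x => by rw [mul_smul, ht, hs]
        inv_mem' := fun {s} hs x => inv_smul_eq_iff.mpr (hs x).symm }
    have : K.Normal := ⟨fun s hs g x => by rw [mul_smul, mul_smul, hs, smul_inv_smul]⟩
    have hle : ((Pi1X.autWhisker H F').range : Set (Aut (H ⋙ F'))) ⊆ K := by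
      rintro _ ⟨τ, rfl⟩ x
      exact h τ x
    exact (Subgroup.normalClosure_le_normal hle).trans fun σ hσ => hσ a

theorem exists_sub_of_ker_le (X' : C') [IsConnected X'] (a' : F'.obj X')
    (hker : (Pi1X.autWhisker H F').ker ≤ MulAction.stabilizer (Aut F') a') :
    ∃ (X : C) (Y' : C') (i : Y' ⟶ H.obj X) (q : Y' ⟶ X'), Mono i ∧ IsConnected Y' := by
  classical
  let ι := Σ X : C, (H ⋙ F').obj X
  let K : ι → Set (Aut F') := fun c => Pi1X.autWhisker H F' ⁻¹' MulAction.stabilizer (Aut (H ⋙ F')) c.2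
  have hK : ∀ c, IsClosed (K c) := fun c =>
    (Subgroup.isClosed_of_isOpen _ (isOpen_stabilizer (H ⋙ F') c.2)).preimage (continuous_autWhisker H F')
  have hcomp : IsCompact (MulAction.stabilizer (Aut F') a' : Set (Aut F'))ᶜ :=
    (isOpen_stabilizer F' a').isClosed_compl.isCompact
  have hempty : (MulAction.stabilizer (Aut F') a' : Set (Aut F'))ᶜ ∩ ⋂ c, K c = ∅ := by
    refine Set.eq_empty_iff_forall_notMem.mpr fun σ ⟨hσ, hσK⟩ => hσ (hker ?_)
    rw [MonoidHom.mem_ker]
    exact eq_one_of_forall_connected (H ⋙ F') _ fun X _ x => Set.mem_iInter.mp hσK ⟨X, x⟩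
  obtain ⟨s, hs⟩ := hcomp.elim_finite_subfamily_closed K hK hempty
  let V : Subgroup (Aut (H ⋙ F')) := ⨅ c ∈ s, MulAction.stabilizer (Aut (H ⋙ F')) c.2
  have hV : IsOpen (V : Set (Aut (H ⋙ F'))) := by
    simp only [V, Subgroup.coe_iInf]
    exact isOpen_biInter_finset fun c _ => isOpen_stabilizer (H ⋙ F') c.2
  obtain ⟨X, c, hX, hcV⟩ := exists_stabilizer_eq (H ⋙ F') ⟨V, hV⟩
  obtain ⟨Y', i, y, hy, hY', hmono⟩ := fiber_in_connected_component F' (H.obj X) c
  have hle : MulAction.stabilizer (Aut F') y ≤ MulAction.stabilizer (Aut F') a' := by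
    intro σ hσ
    by_contra hσ'
    rw [← stabilizer_map_of_mono F' i y, hy] at hσ
    have hσV : Pi1X.autWhisker H F' σ ∈ V := by
      have : Pi1X.autWhisker H F' σ ∈ MulAction.stabilizer (Aut (H ⋙ F')) c := hσ
      rw [hcV] at this
      exact this
    refine (Set.eq_empty_iff_forall_notMem.mp hs) σ ⟨hσ', Set.mem_iInter₂.mpr fun d hd => ?_⟩
    simp only [V, Subgroup.mem_iInf] at hσV
    exact hσV d hd
  obtain ⟨q, -⟩ := (exists_hom_iff F' Y' X' y a').mpr hle
  exact ⟨X, Y', i, q, hmono, hY'⟩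

theorem ker_le_stabilizer_of_sub {X' : C'} [IsConnected X'] (a' : F'.obj X') {X : C} {Y' : C'}
    (i : Y' ⟶ H.obj X) (q : Y' ⟶ X') [Mono i] (hY' : Nonempty (F'.obj Y')) :
    (Pi1X.autWhisker H F').ker ≤ MulAction.stabilizer (Aut F') a' := by
  intro σ hσ
  obtain ⟨y, rfl⟩ := surjective_of_nonempty_fiber_of_isConnected F' q a'
  rw [MulAction.mem_stabilizer_iff, smul_map]
  congr 1
  apply injective_map_of_mono F' i
  rw [← smul_map]
  have h1 : Pi1X.autWhisker H F' σ = 1 := hσ
  have : Pi1X.autWhisker H F' σ • (show (H ⋙ F').obj X from F'.map i y) = F'.map i y := by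
    rw [h1, one_smul]
  exact this

theorem ker_le_stabilizer_iff (X' : C') [IsConnected X'] (a' : F'.obj X') :
    (Pi1X.autWhisker H F').ker ≤ MulAction.stabilizer (Aut F') a' ↔
      ∃ (X : C) (Y' : C') (i : Y' ⟶ H.obj X) (q : Y' ⟶ X'), Mono i ∧ IsConnected Y' :=
  ⟨exists_sub_of_ker_le H F' X' a', fun ⟨_, _, i, q, _, _⟩ => ker_le_stabilizer_of_sub H F' a' i q inferInstance⟩

theorem injective_iff : Function.Injective (Pi1X.autWhisker H F') ↔
    ∀ X' : C', IsConnected X' → ∃ (X : C) (Y' : C') (p : Y' ⟶ X') (q : Y' ⟶ H.obj X), Epi p ∧ Mono q := by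
  rw [← MonoidHom.ker_eq_bot_iff]
  constructor
  · intro h X' _
    obtain ⟨a'⟩ := nonempty_fiber_of_isConnected F' X'
    obtain ⟨X, Y', i, q, hi, hY'⟩ := exists_sub_of_ker_le H F' X' a' (by rw [h]; exact bot_le)
    exact ⟨X, Y', q, i, epi_of_nonempty_of_isConnected F' q, hi⟩
  · intro h
    rw [eq_bot_iff]
    intro σ hσ
    refine Subgroup.mem_bot.mpr (eq_one_of_forall_connected F' σ fun X' hX' x => ?_)
    obtain ⟨X, Y', p, q, hp, hq⟩ := h X' hX'
    obtain ⟨y, hy⟩ := surjective_on_fiber_of_epi F' p x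
    exact ker_le_stabilizer_of_sub H F' x q p ⟨y⟩ hσ

theorem exists_iso_of_ker_trivial (hsurj : Function.Surjective (Pi1X.autWhisker H F'))
    [PreservesFiniteColimits H] (X' : C')
    (h : ∀ σ ∈ (Pi1X.autWhisker H F').ker, ∀ x : F'.obj X', σ • x = x) :
    ∃ X : C, Nonempty (H.obj X ≅ X') := by
  obtain ⟨ι, hι, f, e, hf⟩ := has_decomp_connected_components' X'
  have key : ∀ j, ∃ Z : C, Nonempty (H.obj Z ≅ f j) := by
    intro j
    have := hf j
    obtain ⟨y⟩ := nonempty_fiber_of_isConnected F' (f j)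
    have hker : (Pi1X.autWhisker H F').ker ≤ MulAction.stabilizer (Aut F') y := by
      intro σ hσ
      rw [← stabilizer_map_of_mono F' (Sigma.ι f j) y, MulAction.mem_stabilizer_iff]
      have h2 := h σ hσ (F'.map e.hom (F'.map (Sigma.ι f j) y))
      rw [smul_map] at h2
      exact injective_map_of_mono F' e.hom h2
    let U' := MulAction.stabilizer (Aut F') y
    have hfin : Finite (Aut F' ⧸ U') := U'.quotient_finite_of_isOpen (isOpen_stabilizer F' y)
    have : U'.FiniteIndex := Subgroup.finiteIndex_of_finite_quotient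
    have : (U'.map (Pi1X.autWhisker H F')).FiniteIndex :=
      ⟨fun h0 => Subgroup.FiniteIndex.index_ne_zero (H := U')
        (Nat.eq_zero_of_zero_dvd (h0 ▸ Subgroup.index_map_dvd U' hsurj))⟩
    have hclosed : IsClosed ((U'.map (Pi1X.autWhisker H F') : Subgroup _) : Set (Aut (H ⋙ F'))) := by
      rw [Subgroup.coe_map]
      exact ((Subgroup.isClosed_of_isOpen _ (isOpen_stabilizer F' y)).isCompact.image
        (continuous_autWhisker H F')).isClosed
    obtain ⟨Z, z, hZ, hz⟩ := exists_stabilizer_eq (H ⋙ F')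
      ⟨U'.map (Pi1X.autWhisker H F'), Subgroup.isOpen_of_isClosed_of_finiteIndex _ hclosed⟩
    have := isConnected_map_of_surjective H F' hsurj Z hZ
    have hstab : MulAction.stabilizer (Aut F') (show F'.obj (H.obj Z) from z) = MulAction.stabilizer (Aut F') y := by
      rw [stabilizer_comap, hz]
      exact (Subgroup.comap_map_eq _ _).trans (sup_eq_left.mpr hker)
    exact ⟨Z, ⟨(exists_iso_of_stabilizer_eq F' _ _ _ _ hstab).choose⟩⟩
  choose Z hZ using key
  have := Fintype.ofFinite ι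
  exact ⟨∐ Z, ⟨PreservesCoproduct.iso H Z ≪≫ Sigma.mapIso (fun j => (hZ j).some) ≪≫ e⟩⟩

theorem ker_le_of_exists_iso {X' : C'} {X : C} (e : H.obj X ≅ X') (σ : Aut F')
    (hσ : σ ∈ (Pi1X.autWhisker H F').ker) (x : F'.obj X') : σ • x = x := by
  obtain ⟨y, rfl⟩ := ((ConcreteCategory.isIso_iff_bijective (F'.map e.hom)).mp inferInstance).2 x
  rw [smul_map]
  congr 1
  have h1 : Pi1X.autWhisker H F' σ = 1 := hσ
  have : Pi1X.autWhisker H F' σ • (show (H ⋙ F').obj X from y) = y := by rw [h1, one_smul]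
  exact this

end Groth.Agent.GalCat.Exact
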