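import Groth.Agent.GalCat.Basic
import Mathlib.CategoryTheory.CofilteredSystem
import Mathlib.CategoryTheory.Limits.Preserves.Shapes.BinaryProducts

/-!
# Galois categories: uniqueness of fibre functors; exact functors are compatible with fibre functors
-/

universe u v w t u' v'

namespace Groth.Agent.GalCat.Unique

open CategoryTheory Limits PreGaloisCategory Groth.Agent.GalCat.Basic

variable {C : Type u} [Category.{v} C] [GaloisCategory C]

theorem isCofilteredOrEmpty (F : C ⥤ FintypeCat.{w}) [FiberFunctor F] :
    IsCofilteredOrEmpty (PointedGaloisObject F) where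
  cone_objs := fun ⟨A, a, _⟩ ⟨B, b, _⟩ ↦ by
    obtain ⟨Z, f, z, hgal, hfz⟩ := exists_hom_from_galois_of_fiber F (A ⨯ B)
      <| (fiberBinaryProductEquiv F A B).symm (a, b)
    refine ⟨⟨Z, z, hgal⟩, ⟨f ≫ prod.fst, ?_⟩, ⟨f ≫ prod.snd, ?_⟩, trivial⟩
    · simp only [F.map_comp, hfz, FintypeCat.comp_apply, fiberBinaryProductEquiv_symm_fst_apply]
    · simp only [F.map_comp, hfz, FintypeCat.comp_apply, fiberBinaryProductEquiv_symm_snd_apply]
  cone_maps := fun ⟨A, a, _⟩ ⟨B, b, _⟩ ⟨f, hf⟩ ⟨g, hg⟩ ↦ by
    obtain ⟨Z, h, z, hgal, hhz⟩ := exists_hom_from_galois_of_fiber F A a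
    refine ⟨⟨Z, z, hgal⟩, ⟨h, hhz⟩, PointedGaloisObject.hom_ext ?_⟩
    apply evaluation_injective_of_isConnected F Z B z
    simp [hhz, hf, hg]

/-- A left exact functor to finite sets preserving finite coproducts with non-empty values on connected objects is
isomorphic to the fibre functor. -/
theorem nonempty_iso (F : C ⥤ FintypeCat.{w}) [FiberFunctor F] (F' : C ⥤ FintypeCat.{w}) [PreservesFiniteLimits F']
    [PreservesFiniteCoproducts F'] (hne : ∀ A : C, IsConnected A → Nonempty (F'.obj A)) :
    Nonempty (F' ≅ F) := by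
  let S := PointedGaloisObject.incl F ⋙ F' ⋙ FintypeCat.incl
  have := isCofilteredOrEmpty F
  have : ∀ A, Finite (S.obj A) := fun A => inferInstanceAs (Finite (F'.obj A.obj))
  have : ∀ A, Nonempty (S.obj A) := fun A => hne A.obj inferInstance
  obtain ⟨p₀, hp⟩ := nonempty_sections_of_finite_cofiltered_system S
  let p : ∀ A : PointedGaloisObject F, F'.obj A.obj := p₀
  have hp' : ∀ {A B : PointedGaloisObject F} (f : A ⟶ B), F'.map f.val (p A) = p B := fun f => hp f
  have key : ∀ {X : C} (A B : PointedGaloisObject F) (f : A.obj ⟶ X) (g : B.obj ⟶ X),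
      F.map f A.pt = F.map g B.pt → F'.map f (p A) = F'.map g (p B) := by
    intro X A B f g h
    obtain ⟨Z, a, b, -⟩ := IsCofilteredOrEmpty.cone_objs A B
    have e : a.val ≫ f = b.val ≫ g := by
      apply evaluation_injective_of_isConnected F Z.obj X Z.pt
      simpa [F.map_comp, a.comp, b.comp] using h
    rw [← hp' a, ← hp' b, ← FintypeCat.comp_apply, ← F'.map_comp, e, F'.map_comp, FintypeCat.comp_apply]
  choose A f a hA hfa using fun (X : C) (x : F.obj X) => exists_hom_from_galois_of_fiber F X x
  let η : ∀ X, F.obj X → F'.obj X := fun X x => F'.map (f X x) (p ⟨A X x, a X x, hA X x⟩)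
  have hη : ∀ {X : C} (B : PointedGaloisObject F) (g : B.obj ⟶ X),
      η X (F.map g B.pt) = F'.map g (p B) := by
    intro X B g
    exact key (X := X) ⟨A X (F.map g B.pt), a X _, hA X _⟩ B (f X _) g (hfa X _)
  have hnat : ∀ {X Y : C} (g : X ⟶ Y) (x : F.obj X), F'.map g (η X x) = η Y (F.map g x) := by
    intro X Y g x
    rw [← FintypeCat.comp_apply, ← F'.map_comp, ← hη ⟨A X x, a X x, hA X x⟩ (f X x ≫ g)]
    congr 1
    rw [F.map_comp, FintypeCat.comp_apply, hfa]
  have hbij : ∀ X, Function.Bijective (η X) := by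
    intro X
    obtain ⟨B, b, hB, hBX⟩ := exists_galois_representative F X
    let B' : PointedGaloisObject F := ⟨B, b, hB⟩
    constructor
    · intro x y hxy
      obtain ⟨g, rfl⟩ := hBX.surjective x
      obtain ⟨h, rfl⟩ := hBX.surjective y
      change η X (F.map g B'.pt) = η X (F.map h B'.pt) at hxy
      rw [hη B' g, hη B' h] at hxy
      by_contra hne'
      have hgh : g ≠ h := fun e => hne' (by rw [e])
      obtain ⟨hE⟩ : Nonempty (IsInitial (equalizer g h)) := by
        by_contra hc
        have : IsIso (equalizer.ι g h) :=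
          IsConnected.noTrivialComponent _ (equalizer.ι g h) fun hi => hc ⟨hi⟩
        exact hgh eq_of_epi_equalizer
      have e : F'.obj (equalizer g h) ≃ { x : F'.obj B // F'.map g x = F'.map h x } :=
        (PreservesEqualizer.iso (F' ⋙ FintypeCat.incl) g h ≪≫
          Types.equalizerIso (F'.map g).hom (F'.map h).hom).toEquiv
      have : IsEmpty (F'.obj (equalizer g h)) :=
        (Concrete.initial_iff_empty_of_preserves_of_reflects _).mp ⟨IsInitial.isInitialObj F' _ hE⟩
      exact this.false (e.symm ⟨p B', hxy⟩)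
    · intro y
      let gr : (B ⟶ X) → (B ⟶ B ⨯ X) := fun g => prod.lift (𝟙 B) g
      have := Finite.of_injective _ hBX.injective
      let θ : ∐ (fun _ : B ⟶ X => B) ⟶ B ⨯ X := Sigma.desc gr
      have hrep : ∀ (G : C ⥤ FintypeCat.{w}) [PreservesFiniteCoproducts G]
          (z : G.obj (∐ fun _ : B ⟶ X => B)),
          ∃ g w, G.map (Sigma.ι (fun _ : B ⟶ X => B) g) w = z := by
        intro G _ z
        obtain ⟨⟨g⟩, w, hw⟩ := Concrete.isColimit_exists_rep _
          (isColimitOfPreserves G (coproductIsCoproduct fun _ : B ⟶ X => B)) z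
        exact ⟨g, w, hw⟩
      have hι : ∀ (G : C ⥤ FintypeCat.{w}) (g : B ⟶ X) (w : G.obj B),
          G.map θ (G.map (Sigma.ι (fun _ : B ⟶ X => B) g) w) = G.map (gr g) w := by
        intro G g w
        rw [← FintypeCat.comp_apply, ← G.map_comp, Sigma.ι_desc]
      have hfst : ∀ (g : B ⟶ X) (w : F.obj B), F.map prod.fst (F.map (gr g) w) = w := by
        intro g w
        rw [← FintypeCat.comp_apply, ← F.map_comp, prod.lift_fst, F.map_id, FintypeCat.id_apply]
      have hsnd : ∀ (G : C ⥤ FintypeCat.{w}) (g : B ⟶ X) (w : G.obj B),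
          G.map prod.snd (G.map (gr g) w) = G.map g w := by
        intro G g w
        rw [← FintypeCat.comp_apply, ← G.map_comp, prod.lift_snd]
      have : IsIso (F.map θ) := by
        rw [ConcreteCategory.isIso_iff_bijective]
        constructor
        · intro s t hst
          obtain ⟨g, w, rfl⟩ := hrep F s
          obtain ⟨g', w', rfl⟩ := hrep F t
          rw [hι, hι] at hst
          have h1 := congrArg (F.map prod.fst) hst
          rw [hfst, hfst] at h1
          subst h1
          have h2 := congrArg (F.map prod.snd) hst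
          rw [hsnd, hsnd] at h2
          rw [evaluation_injective_of_isConnected F B X w h2]
        · intro z
          obtain ⟨g, hg⟩ := (evaluation_injective_of_isConnected F B X (F.map prod.fst z)).bijective_of_nat_card_le
            (le_of_eq (Nat.card_eq_of_bijective _ hBX).symm) |>.surjective (F.map prod.snd z)
          refine ⟨F.map (Sigma.ι (fun _ : B ⟶ X => B) g) (F.map prod.fst z), ?_⟩
          rw [hι]
          apply (fiberBinaryProductEquiv F B X).injective
          have hfst' : ∀ q, ((fiberBinaryProductEquiv F B X) q).1 = F.map prod.fst q := fun q => by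
            conv_rhs => rw [← (fiberBinaryProductEquiv F B X).symm_apply_apply q]
            exact (fiberBinaryProductEquiv_symm_fst_apply F _ _).symm
          have hsnd' : ∀ q, ((fiberBinaryProductEquiv F B X) q).2 = F.map prod.snd q := fun q => by
            conv_rhs => rw [← (fiberBinaryProductEquiv F B X).symm_apply_apply q]
            exact (fiberBinaryProductEquiv_symm_snd_apply F _ _).symm
          refine Prod.ext ?_ ?_
          · rw [hfst', hfst', hfst]
          · rw [hsnd', hsnd', hsnd]; exact hg
      have : IsIso θ := isIso_of_reflects_iso θ F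
      let e : F'.obj (B ⨯ X) ≃ F'.obj B × F'.obj X :=
        (PreservesLimitPair.iso (F' ⋙ FintypeCat.incl) B X ≪≫ Types.binaryProductIso _ _).toEquiv
      have hes2 : ∀ x, F'.map prod.snd (e.symm x) = x.2 := by
        intro x
        change ((Types.binaryProductIso _ _).inv ≫ _ ≫ (F' ⋙ FintypeCat.incl).map prod.snd) _ = _
        erw [PreservesLimitPair.iso_inv_snd, Types.binaryProductIso_inv_comp_snd]
        rfl
      have hes1 : ∀ x, F'.map prod.fst (e.symm x) = x.1 := by
        intro x
        change ((Types.binaryProductIso _ _).inv ≫ _ ≫ (F' ⋙ FintypeCat.incl).map prod.fst) _ = _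
        erw [PreservesLimitPair.iso_inv_fst, Types.binaryProductIso_inv_comp_fst]
        rfl
      have he : ∀ q, (e q).2 = F'.map prod.snd q := fun q => by rw [← hes2, e.symm_apply_apply]
      have he1 : ∀ q, (e q).1 = F'.map prod.fst q := fun q => by rw [← hes1, e.symm_apply_apply]
      obtain ⟨z, hz⟩ : ∃ z, F'.map θ z = e.symm (p B', y) := ⟨F'.map (inv θ) (e.symm (p B', y)), by
        rw [← FintypeCat.comp_apply, ← F'.map_comp, IsIso.inv_hom_id, F'.map_id, FintypeCat.id_apply]⟩
      obtain ⟨g, w, rfl⟩ := hrep F' z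
      rw [hι] at hz
      refine ⟨F.map g B'.pt, ?_⟩
      rw [hη B' g]
      have h1 := congrArg (fun q => (e q).1) hz
      have h2 := congrArg (fun q => (e q).2) hz
      simp only [Equiv.apply_symm_apply, he, he1] at h1 h2
      rw [hsnd] at h2
      rw [← FintypeCat.comp_apply, ← F'.map_comp, prod.lift_fst, F'.map_id, FintypeCat.id_apply] at h1
      exact h1 ▸ h2
  exact ⟨(NatIso.ofComponents (fun X => FintypeCat.equivEquivIso (Equiv.ofBijective _ (hbij X)))
    (fun {X Y} g => by ext x; exact (hnat g x).symm)).symm⟩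

theorem nonempty_of_preservesEpimorphisms (F : C ⥤ FintypeCat.{w}) [PreservesFiniteLimits F]
    [F.PreservesEpimorphisms] (A : C) [IsConnected A] : Nonempty (F.obj A) := by
  let F₀ := GaloisCategory.getFiberFunctor C
  have := isConnected_terminal F₀
  have : Epi (terminal.from A) := epi_of_nonempty_of_isConnected F₀ _
  have h : IsTerminal (F.obj (⊤_ C)) := IsTerminal.isTerminalObj F _ terminalIsTerminal
  obtain ⟨a, -⟩ := surjective_of_epi (FintypeCat.incl.map (F.map (terminal.from A)))
    (h.from (FintypeCat.of PUnit.{w+1}) PUnit.unit)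
  exact ⟨a⟩

/-- Exact functors to finite sets are fibre functors. -/
theorem nonempty_iso_of_exact (F : C ⥤ FintypeCat.{w}) [FiberFunctor F] (F' : C ⥤ FintypeCat.{w})
    [PreservesFiniteLimits F'] [PreservesFiniteColimits F'] : Nonempty (F' ≅ F) :=
  nonempty_iso F F' fun A _ => nonempty_of_preservesEpimorphisms F' A

theorem fiberFunctor_of_iso {F F' : C ⥤ FintypeCat.{w}} [FiberFunctor F] (e : F' ≅ F) : FiberFunctor F' where
  preservesTerminalObjects := preservesLimitsOfShape_of_natIso e.symm
  preservesPullbacks := preservesLimitsOfShape_of_natIso e.symm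
  preservesFiniteCoproducts := ⟨fun _ => preservesColimitsOfShape_of_natIso e.symm⟩
  preservesEpis := ⟨fun f _ => by
    rw [NatIso.naturality_2 e f |>.symm]
    infer_instance⟩
  preservesQuotientsByFiniteGroups _ := preservesColimitsOfShape_of_natIso e.symm
  reflectsIsos := ⟨fun f _ => by
    have : IsIso (F.map f) := by
      rw [← NatIso.naturality_1 e f]
      infer_instance
    exact isIso_of_reflects_iso f F⟩

/-- An exact functor between Galois categories pulls back every fibre functor to a fibre functor. -/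
theorem fiberFunctor_comp {D : Type u'} [Category.{v'} D] [GaloisCategory D] (H : C ⥤ D)
    [PreservesFiniteLimits H] [PreservesFiniteColimits H] (F : D ⥤ FintypeCat.{w}) [FiberFunctor F] :
    FiberFunctor (H ⋙ F) := by
  let F₀ : C ⥤ FintypeCat.{w} := GaloisCategory.getFiberFunctor C ⋙ FintypeCat.uSwitch.{v, w}
  let : FiberFunctor F₀ := FiberFunctor.comp_right _
  have : PreservesFiniteLimits (H ⋙ F) := comp_preservesFiniteLimits H F
  have : PreservesFiniteCoproducts (H ⋙ F) := ⟨fun _ => inferInstance⟩
  obtain ⟨e⟩ := nonempty_iso F₀ (H ⋙ F) fun A _ => nonempty_of_preservesEpimorphisms (H ⋙ F) A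
  exact fiberFunctor_of_iso e

end Groth.Agent.GalCat.Unique
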